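import Mathlib
import Groth.Prelude.Def_CAlgX
import Groth.Agent.CAlg7.FlatLimit

set_option autoImplicit false

open TensorProduct MvPolynomial Finsupp

namespace Groth.Agent.QReg14

universe u

variable {A : Type u} [CommRing A]

theorem lTensor_injective_of_flat_coker_aux {M₁ M₂ M₃ : Type u} [AddCommGroup M₁] [Module A M₁]
    [AddCommGroup M₂] [Module A M₂] [AddCommGroup M₃] [Module A M₃] (f : M₁ →ₗ[A] M₂) (g : M₂ →ₗ[A] M₃)
    (hf : Function.Injective f) (hg : Function.Surjective g) (hfg : Function.Exact f g)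
    [Module.Flat A M₃] {K F P : Type u} [AddCommGroup K] [Module A K] [AddCommGroup F] [Module A F]
    [Module.Flat A F] [AddCommGroup P] [Module A P] (i : K →ₗ[A] F) (π : F →ₗ[A] P)
    (hi : Function.Injective i) (hπ : Function.Surjective π) (hiπ : Function.Exact i π) :
    Function.Injective (f.lTensor P) := by
  rw [injective_iff_map_eq_zero]
  intro x hx
  obtain ⟨y, rfl⟩ := LinearMap.rTensor_surjective M₁ hπ x
  have h1 : π.rTensor M₂ (f.lTensor F y) = 0 := by
    rw [← LinearMap.comp_apply, LinearMap.rTensor_comp_lTensor, ← LinearMap.lTensor_comp_rTensor, LinearMap.comp_apply, hx]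
  obtain ⟨z, hz⟩ := (rTensor_exact M₂ hiπ hπ _).1 h1
  have hgf : g ∘ₗ f = 0 := LinearMap.ext fun a => hfg.apply_apply_eq_zero a
  have h2 : g.lTensor K z = 0 := by
    apply Module.Flat.rTensor_preserves_injective_linearMap (M := M₃) i hi
    rw [map_zero, ← LinearMap.comp_apply, LinearMap.rTensor_comp_lTensor, ← LinearMap.lTensor_comp_rTensor,
      LinearMap.comp_apply, hz, ← LinearMap.lTensor_comp_apply, hgf, LinearMap.lTensor_zero, LinearMap.zero_apply]
  obtain ⟨w, rfl⟩ := (lTensor_exact K hfg hg _).1 h2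
  rw [← LinearMap.comp_apply, LinearMap.rTensor_comp_lTensor, ← LinearMap.lTensor_comp_rTensor,
    LinearMap.comp_apply] at hz
  rw [← Module.Flat.lTensor_preserves_injective_linearMap (M := F) f hf hz]
  exact ((rTensor_exact M₁ hiπ hπ) _).2 ⟨w, rfl⟩

/-- A short exact sequence with flat cokernel stays exact after tensoring. -/
theorem lTensor_injective_of_flat_coker {M₁ M₂ M₃ : Type u} [AddCommGroup M₁] [Module A M₁]
    [AddCommGroup M₂] [Module A M₂] [AddCommGroup M₃] [Module A M₃] (f : M₁ →ₗ[A] M₂) (g : M₂ →ₗ[A] M₃)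
    (hf : Function.Injective f) (hg : Function.Surjective g) (hfg : Function.Exact f g)
    [Module.Flat A M₃] (P : Type u) [AddCommGroup P] [Module A P] :
    Function.Injective (f.lTensor P) := by
  let π : (P →₀ A) →ₗ[A] P := Finsupp.linearCombination A id
  let i : (LinearMap.ker π) →ₗ[A] (P →₀ A) := Submodule.subtype _
  refine lTensor_injective_of_flat_coker_aux f g hf hg hfg (K := LinearMap.ker π) i π Subtype.val_injective
    (fun p => ⟨Finsupp.single p 1, by simp [π]⟩) fun y => ⟨fun h => ?_, ?_⟩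
  · exact ⟨(⟨y, h⟩ : LinearMap.ker π), rfl⟩
  · rintro ⟨z, rfl⟩
    exact LinearMap.mem_ker.1 z.2

variable {B : Type u} [CommRing B] [Algebra A B] (A' : Type u) [CommRing A'] [Algebra A A']

local notation "ι'" => (Algebra.TensorProduct.includeRight : B →ₐ[A] A' ⊗[A] B)

lemma span_tmul {r : ℕ} (f : Fin r → B) :
    Ideal.span (Set.range fun i => (1 : A') ⊗ₜ[A] f i) = (Ideal.span (Set.range f)).map ι' := by
  rw [Ideal.map_span]
  congr 1
  rw [← Set.range_comp]
  rfl

lemma mem_map_iff (J : Ideal B) (w : A' ⊗[A] B) :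
    w ∈ J.map ι' ↔ ((Ideal.Quotient.mkₐ A J).toLinearMap).lTensor A' w = 0 := by
  have := Algebra.TensorProduct.lTensor_ker (R := A) (A := A') (Ideal.Quotient.mkₐ A J) (Ideal.Quotient.mkₐ_surjective A J)
  rw [show RingHom.ker (Ideal.Quotient.mkₐ A J) = J from Ideal.Quotient.mkₐ_ker A J] at this
  rw [← this]
  rfl

/-- The monomials of degree `n`. -/
abbrev Mon (r n : ℕ) := {d : Fin r →₀ ℕ // d ∈ Finset.finsuppAntidiag Finset.univ n}

lemma mem_mon {r n : ℕ} {d : Fin r →₀ ℕ} : d ∈ Finset.finsuppAntidiag Finset.univ n ↔ d.degree = n := by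
  simp [Finset.mem_finsuppAntidiag, Finsupp.degree_eq_sum]

lemma support_subset {R : Type*} [CommRing R] {r n : ℕ} {Q : MvPolynomial (Fin r) R} (hQ : Q.IsHomogeneous n) :
    Q.support ⊆ Finset.finsuppAntidiag Finset.univ n := fun d hd => by
  rw [mem_mon, ← hQ (MvPolynomial.mem_support_iff.1 hd), Finsupp.degree_eq_weight_one]
  rfl

lemma eval_eq_monSum {R : Type*} [CommRing R] {r n : ℕ} (g : Fin r → R) {Q : MvPolynomial (Fin r) R}
    (hQ : Q.IsHomogeneous n) : eval g Q = ∑ d : Mon r n, Q.coeff d.1 * ∏ i, g i ^ d.1 i := by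
  rw [eval_eq', Finset.sum_coe_sort (Finset.finsuppAntidiag Finset.univ n) fun d => Q.coeff d * ∏ i, g i ^ d i]
  refine Finset.sum_subset (support_subset hQ) fun d _ hd => ?_
  rw [MvPolynomial.notMem_support_iff.1 hd, zero_mul]

lemma mem_span_pow_iff_monSum {r n : ℕ} (f : Fin r → B) (y : B) :
    y ∈ Ideal.span (Set.range f) ^ n ↔ ∃ c : Mon r n → B, ∑ d, c d * ∏ i, f i ^ d.1 i = y := by
  rw [Ideal.mem_span_pow_iff_exists_isHomogeneous]
  constructor
  · rintro ⟨Q, hQ, rfl⟩
    exact ⟨fun d => Q.coeff d.1, (eval_eq_monSum f hQ).symm⟩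
  · rintro ⟨c, rfl⟩
    refine ⟨∑ d : Mon r n, monomial d.1 (c d), IsHomogeneous.sum _ _ _ fun d _ =>
      isHomogeneous_monomial _ (mem_mon.1 d.2), ?_⟩
    simp [eval_monomial, Finsupp.prod_fintype]

/-- The map `(B/I)^monomials → B/I^{n+1}`. -/
noncomputable def monMap {r : ℕ} (f : Fin r → B) (n : ℕ) :
    (Mon r n → B) →ₗ[A] B ⧸ Ideal.span (Set.range f) ^ (n + 1) :=
  ∑ d : Mon r n, (Ideal.Quotient.mkₐ A _).toLinearMap ∘ₗ
    (LinearMap.mulRight A (∏ i, f i ^ d.1 i)) ∘ₗ LinearMap.proj d

lemma monMap_apply {r : ℕ} (f : Fin r → B) (n : ℕ) (c : Mon r n → B) :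
    monMap (A := A) f n c = Ideal.Quotient.mk _ (∑ d, c d * ∏ i, f i ^ d.1 i) := by
  simp [monMap, map_sum]

/-- The reduction of the coordinates. -/
noncomputable def redMap {r : ℕ} (f : Fin r → B) (n : ℕ) :
    (Mon r n → B) →ₗ[A] (Mon r n → B ⧸ Ideal.span (Set.range f)) :=
  LinearMap.pi fun d => (Ideal.Quotient.mkₐ A _).toLinearMap ∘ₗ LinearMap.proj d

lemma redMap_apply {r : ℕ} (f : Fin r → B) (n : ℕ) (c : Mon r n → B) (d : Mon r n) :
    redMap (A := A) f n c d = Ideal.Quotient.mk _ (c d) := rfl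

lemma redMap_surjective {r : ℕ} (f : Fin r → B) (n : ℕ) : Function.Surjective (redMap (A := A) f n) := fun c => by
  choose b hb using fun d => Ideal.Quotient.mk_surjective (c d)
  exact ⟨b, funext hb⟩

lemma ker_monMap {r : ℕ} (f : Fin r → B) (hq : CAlgX.IsQuasiRegular f) (n : ℕ) :
    LinearMap.ker (monMap (A := A) f n) = LinearMap.ker (redMap (A := A) f n) := by
  classical
  ext c
  rw [LinearMap.mem_ker, LinearMap.mem_ker, monMap_apply, Ideal.Quotient.eq_zero_iff_mem]
  constructor
  · intro h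
    funext d
    rw [redMap_apply, Pi.zero_apply, Ideal.Quotient.eq_zero_iff_mem]
    have := hq n (∑ d : Mon r n, monomial d.1 (c d)) (IsHomogeneous.sum _ _ _ fun d _ =>
      isHomogeneous_monomial _ (mem_mon.1 d.2)) (by simpa [eval_monomial, Finsupp.prod_fintype] using h) d.1
    rwa [coeff_sum, Finset.sum_eq_single d (fun b _ hb => by
      rw [coeff_monomial, if_neg fun e => hb (Subtype.ext e)]) (by simp), coeff_monomial, if_pos rfl] at this
  · intro h
    rw [pow_succ']
    refine sum_mem fun d _ => Ideal.mul_mem_mul ?_ ?_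
    · rw [← Ideal.Quotient.eq_zero_iff_mem, ← redMap_apply (A := A), h, Pi.zero_apply]
    · exact (mem_span_pow_iff_monSum f _).2 ⟨Pi.single d 1, by simp [Pi.single_apply, ite_mul]⟩

/-- Induced map. -/
noncomputable def monMap' {r : ℕ} (f : Fin r → B) (hq : CAlgX.IsQuasiRegular f) (n : ℕ) :
    (Mon r n → B ⧸ Ideal.span (Set.range f)) →ₗ[A] B ⧸ Ideal.span (Set.range f) ^ (n + 1) :=
  (Submodule.liftQ _ (monMap f n) (ker_monMap f hq n).ge) ∘ₗ
    ((redMap (A := A) f n).quotKerEquivOfSurjective (redMap_surjective f n)).symm.toLinearMap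

lemma monMap'_comp {r : ℕ} (f : Fin r → B) (hq : CAlgX.IsQuasiRegular f) (n : ℕ) :
    monMap' (A := A) f hq n ∘ₗ redMap f n = monMap f n := by
  refine LinearMap.ext fun c => ?_
  have : ((redMap (A := A) f n).quotKerEquivOfSurjective (redMap_surjective f n)).symm (redMap (A := A) f n c) =
      Submodule.Quotient.mk c := by
    rw [LinearEquiv.symm_apply_eq]
    rfl
  simp [monMap', this]

lemma monMap'_injective {r : ℕ} (f : Fin r → B) (hq : CAlgX.IsQuasiRegular f) (n : ℕ) :
    Function.Injective (monMap' (A := A) f hq n) := by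
  rw [monMap', LinearMap.coe_comp]
  refine Function.Injective.comp ?_ (LinearEquiv.injective _)
  rw [← LinearMap.ker_eq_bot, Submodule.ker_liftQ, ker_monMap f hq n, Submodule.mkQ_map_self]

lemma exact_monMap' {r : ℕ} (f : Fin r → B) (hq : CAlgX.IsQuasiRegular f) (n : ℕ) :
    Function.Exact (monMap' (A := A) f hq n)
      (Ideal.Quotient.factorₐ A (Ideal.pow_le_pow_right n.le_succ : Ideal.span (Set.range f) ^ (n + 1) ≤ _)).toLinearMap := by
  intro x
  obtain ⟨y, rfl⟩ := Ideal.Quotient.mk_surjective x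
  rw [show Set.range (monMap' (A := A) f hq n) = Set.range (monMap (A := A) f n) by
    rw [← monMap'_comp f hq n, LinearMap.coe_comp, Set.range_comp, (redMap_surjective f n).range_eq, Set.image_univ]]
  change Ideal.Quotient.mk (Ideal.span (Set.range f) ^ n) y = 0 ↔ _
  rw [Ideal.Quotient.eq_zero_iff_mem]
  constructor
  · intro h
    obtain ⟨c, hc⟩ := (mem_span_pow_iff_monSum f _).1 h
    exact ⟨c, by rw [monMap_apply, hc]⟩
  · rintro ⟨c, hc⟩
    rw [monMap_apply, Ideal.Quotient.eq] at hc
    have := sub_mem ((mem_span_pow_iff_monSum f _).2 ⟨c, rfl⟩) (Ideal.pow_le_pow_right n.le_succ hc)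
    simpa using this

theorem flat_quotient_pow {r : ℕ} (f : Fin r → B) (hq : CAlgX.IsQuasiRegular f)
    [Module.Flat A (B ⧸ Ideal.span (Set.range f))] (n : ℕ) :
    Module.Flat A (B ⧸ Ideal.span (Set.range f) ^ n) := by
  classical
  induction n with
  | zero =>
    have : Subsingleton (B ⧸ Ideal.span (Set.range f) ^ 0) := by
      rw [pow_zero, Ideal.one_eq_top]; infer_instance
    exact inferInstance
  | succ n ih =>
    have : Module.Flat A (Mon r n →₀ B ⧸ Ideal.span (Set.range f)) :=
      Module.Flat.of_linearEquiv (finsuppLEquivDirectSum A (B ⧸ Ideal.span (Set.range f)) (Mon r n))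
    have : Module.Flat A (Mon r n → B ⧸ Ideal.span (Set.range f)) :=
      Module.Flat.of_linearEquiv (Finsupp.linearEquivFunOnFinite A (B ⧸ Ideal.span (Set.range f)) (Mon r n)).symm
    exact CAlg7.flat_of_exact (monMap' f hq n) _ (monMap'_injective f hq n)
      (Ideal.Quotient.factor_surjective (Ideal.pow_le_pow_right n.le_succ)) (exact_monMap' f hq n)

theorem isQuasiRegular_baseChange {r : ℕ} (f : Fin r → B)
    [Module.Flat A (B ⧸ Ideal.span (Set.range f))] (hq : CAlgX.IsQuasiRegular f) :
    CAlgX.IsQuasiRegular (fun i => ((1 : A') ⊗ₜ[A] f i : A' ⊗[A] B)) := by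
  classical
  intro n P hP hev d
  rw [span_tmul] at hev ⊢
  rw [← Ideal.map_pow, mem_map_iff] at hev
  rcases em (d.degree = n) with hd | hd
  swap
  · rw [IsHomogeneous.coeff_eq_zero hP hd]; exact zero_mem _
  rw [mem_map_iff]
  let sgl : Mon r n → B →ₗ[A] (Mon r n → B) := fun e => LinearMap.single A (fun _ => B) e
  let z : A' ⊗[A] (Mon r n → B) := ∑ e : Mon r n, (sgl e).lTensor A' (P.coeff e.1)
  have h1 : (monMap (A := A) f n).lTensor A' z = 0 := by
    rw [← hev, eval_eq_monSum _ hP, map_sum, map_sum]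
    refine Finset.sum_congr rfl fun e _ => ?_
    have he : monMap f n ∘ₗ sgl e = (Ideal.Quotient.mkₐ A (Ideal.span (Set.range f) ^ (n + 1))).toLinearMap ∘ₗ
        LinearMap.mulRight A (∏ i, f i ^ e.1 i) := by
      refine LinearMap.ext fun b => ?_
      simp [monMap_apply, sgl, Pi.single_apply, ite_mul]
    rw [← LinearMap.lTensor_comp_apply, he, LinearMap.lTensor_comp_apply]
    congr 1
    have hprod : ∏ i, ((1 : A') ⊗ₜ[A] f i) ^ e.1 i = (1 : A') ⊗ₜ[A] (∏ i, f i ^ e.1 i) := by
      simp only [← Algebra.TensorProduct.includeRight_apply, map_prod, map_pow]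
    rw [hprod]
    induction (P.coeff e.1) using TensorProduct.induction_on with
    | zero => simp
    | add a b ha hb => rw [map_add, ha, hb, add_mul]
    | tmul a b => simp
  have hfl := flat_quotient_pow (A := A) f hq n
  have hinj := lTensor_injective_of_flat_coker (monMap' (A := A) f hq n) _ (monMap'_injective f hq n)
      (Ideal.Quotient.factor_surjective (Ideal.pow_le_pow_right n.le_succ)) (exact_monMap' f hq n) A'
  have h2 : (redMap (A := A) f n).lTensor A' z = 0 := hinj (by
    rw [← LinearMap.lTensor_comp_apply, monMap'_comp, h1, map_zero])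
  let dd : Mon r n := ⟨d, mem_mon.2 hd⟩
  have h3 := congrArg (((LinearMap.proj dd : (Mon r n → B ⧸ Ideal.span (Set.range f)) →ₗ[A] _)).lTensor A') h2
  rw [map_zero, ← LinearMap.lTensor_comp_apply, map_sum] at h3
  rw [Finset.sum_eq_single dd ?_ (by simp)] at h3
  · rw [← LinearMap.lTensor_comp_apply] at h3
    rw [← h3]
    congr 1
    congr 1
    refine LinearMap.ext fun b => ?_
    simp [redMap, sgl, dd]
  · intro e _ hne
    rw [← LinearMap.lTensor_comp_apply]
    have : ((LinearMap.proj dd : (Mon r n → B ⧸ Ideal.span (Set.range f)) →ₗ[A] _) ∘ₗ redMap f n) ∘ₗ sgl e = 0 := by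
      refine LinearMap.ext fun b => ?_
      simp [redMap, sgl, Pi.single_eq_of_ne (Ne.symm hne)]
    rw [this, LinearMap.lTensor_zero, LinearMap.zero_apply]

theorem isH1Regular_baseChange {r : ℕ} (f : Fin r → B)
    [Module.Flat A (B ⧸ Ideal.span (Set.range f))] (hq : CAlgX.IsH1Regular f) :
    CAlgX.IsH1Regular (fun i => ((1 : A') ⊗ₜ[A] f i : A' ⊗[A] B)) := by
  classical
  intro a ha
  set f' : Fin r → A' ⊗[A] B := fun i => (1 : A') ⊗ₜ[A] f i with hf'
  set I := Ideal.span (Set.range f)
  set S := Submodule.span B {v : Fin r → B | ∃ i j : Fin r, v = Pi.single i (f j) - Pi.single j (f i)}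
  set S' := Submodule.span (A' ⊗[A] B) {v : Fin r → A' ⊗[A] B | ∃ i j : Fin r, v = Pi.single i (f' j) - Pi.single j (f' i)}
  let φB : (Fin r → B) →ₗ[B] I := (Fintype.linearCombination B f).codRestrict (I.restrictScalars B) fun c =>
    (Fintype.linearCombination_apply B f c).symm ▸ (sum_mem fun i _ => Ideal.mul_mem_left I (c i) (Ideal.subset_span (Set.mem_range_self i)))
  let φ : (Fin r → B) →ₗ[A] I := φB.restrictScalars A
  have hφ : Function.Surjective φ := fun y => by
    obtain ⟨c, hc⟩ := Ideal.mem_span_range_iff_exists_fun.1 y.2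
    refine ⟨c, Subtype.ext ?_⟩
    change Fintype.linearCombination B f c = (y : B)
    rw [Fintype.linearCombination_apply]
    exact hc
  have hexact : Function.Exact (S.restrictScalars A).subtype φ := fun c => by
    constructor
    · intro h
      exact ⟨(⟨c, hq c ((Fintype.linearCombination_apply B f c).symm.trans (congrArg Subtype.val h :))⟩ : S.restrictScalars A), rfl⟩
    · rintro ⟨⟨c, hc⟩, rfl⟩
      apply Subtype.ext
      change Fintype.linearCombination B f c = 0
      refine (show S ≤ LinearMap.ker (Fintype.linearCombination B f) from Submodule.span_le.2 ?_) hc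
      rintro _ ⟨i, j, rfl⟩
      simp [Fintype.linearCombination_apply_single, mul_comm]
  let sgl : Fin r → B →ₗ[A] (Fin r → B) := fun i => LinearMap.single A (fun _ => B) i
  let T : A' ⊗[A] (Fin r → B) →ₗ[A] (Fin r → A' ⊗[A] B) :=
    LinearMap.pi fun i => (LinearMap.proj i : (Fin r → B) →ₗ[A] B).lTensor A'
  let z : A' ⊗[A] (Fin r → B) := ∑ i, (sgl i).lTensor A' (a i)
  have hz : T z = a := by
    funext j
    simp only [T, LinearMap.pi_apply, z, map_sum, Finset.sum_apply]
    rw [Finset.sum_eq_single j (fun i _ hne => ?_) (by simp)]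
    · rw [← LinearMap.lTensor_comp_apply, show (LinearMap.proj j : (Fin r → B) →ₗ[A] B) ∘ₗ sgl j = LinearMap.id from
        LinearMap.ext fun b => by simp [sgl], LinearMap.lTensor_id, LinearMap.id_apply]
    · rw [← LinearMap.lTensor_comp_apply, show (LinearMap.proj j : (Fin r → B) →ₗ[A] B) ∘ₗ sgl i = 0 from
        LinearMap.ext fun b => by simp [sgl, Pi.single_eq_of_ne (Ne.symm hne)], LinearMap.lTensor_zero, LinearMap.zero_apply]
  let jI : I →ₗ[A] B := (I.subtype).restrictScalars A
  have hinj : Function.Injective (jI.lTensor A') :=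
    lTensor_injective_of_flat_coker jI (Ideal.Quotient.mkₐ A I).toLinearMap Subtype.val_injective
      (Ideal.Quotient.mkₐ_surjective A I) (fun x => by simp [jI, Ideal.Quotient.eq_zero_iff_mem]) A'
  have h0 : φ.lTensor A' z = 0 := by
    apply hinj
    rw [map_zero, ← LinearMap.lTensor_comp_apply, map_sum, ← ha]
    refine Finset.sum_congr rfl fun i _ => ?_
    rw [← LinearMap.lTensor_comp_apply]
    induction a i using TensorProduct.induction_on with
    | zero => simp
    | add x y hx hy => rw [map_add, hx, hy, add_mul]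
    | tmul x b =>
      simp [f', jI, φ, φB, sgl]
      congr 1
      exact Fintype.linearCombination_apply_single B f _ _
  obtain ⟨w, hw⟩ := (lTensor_exact A' hexact hφ z).1 h0
  rw [← hz, ← hw]
  clear hw
  induction w using TensorProduct.induction_on with
  | zero => simp
  | add x y hx hy => rw [map_add, map_add]; exact add_mem hx hy
  | tmul x s =>
    obtain ⟨s, hs⟩ := s
    change T (x ⊗ₜ[A] s) ∈ S'
    have hT : ∀ (x : A') (c : Fin r → B), T (x ⊗ₜ[A] c) = fun i => x ⊗ₜ[A] c i := fun x c => by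
      funext i; simp [T]
    induction hs using Submodule.span_induction with
    | mem v hv =>
      obtain ⟨i, j, rfl⟩ := hv
      have : T (x ⊗ₜ[A] (Pi.single i (f j) - Pi.single j (f i))) =
          (x ⊗ₜ[A] (1 : B)) • (Pi.single i (f' j) - Pi.single j (f' i)) := by
        rw [hT]
        funext k
        simp only [Pi.sub_apply, Pi.smul_apply, smul_eq_mul, f', Pi.single_apply, mul_sub, tmul_sub]
        split_ifs <;> simp
      rw [this]
      exact Submodule.smul_mem _ _ (Submodule.subset_span ⟨i, j, rfl⟩)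
    | zero => simp
    | add p q _ _ hp hq => rw [tmul_add, map_add]; exact add_mem hp hq
    | smul b p _ hp =>
      have : T (x ⊗ₜ[A] (b • p)) = ((1 : A') ⊗ₜ[A] b) • T (x ⊗ₜ[A] p) := by
        rw [hT, hT]
        funext k
        simp
      rw [this]
      exact Submodule.smul_mem _ _ hp

end Groth.Agent.QReg14
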