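import Mathlib
import Groth.Prelude.Def_CAlgX
import Groth.Agent.EGA4Alg4.QuasiReg

set_option autoImplicit false

open MvPolynomial RingTheory.Sequence

namespace Groth.Agent.QReg14

universe u

theorem inf_pow_le_succ {A : Type u} [CommRing A] (J : Ideal A) {r : ℕ} (f : Fin r → A)
    (hf : IsWeaklyRegular (A ⧸ J) (List.ofFn f)) (m : ℕ) :
    J ⊓ Ideal.span (Set.range f) ^ m ≤
      J * Ideal.span (Set.range f) ^ m ⊔ J ⊓ Ideal.span (Set.range f) ^ (m + 1) := by
  classical
  set R := Ideal.span (Set.range f) with hR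
  let g : Fin r → A ⧸ J := fun i => Ideal.Quotient.mk J (f i)
  have hg : IsWeaklyRegular (A ⧸ J) (List.ofFn g) := by
    rw [← isWeaklyRegular_map_algebraMap_iff (A ⧸ J) (A ⧸ J), List.map_ofFn] at hf
    exact hf
  have hq := EGA4Alg4.isQuasiRegular_of_isWeaklyRegular r g hg
  have hRg : Ideal.span (Set.range g) = R.map (Ideal.Quotient.mk J) := by
    rw [hR, Ideal.map_span, ← Set.range_comp]; rfl
  rintro x ⟨hxJ, hxR⟩
  obtain ⟨P, hP, rfl⟩ := (Ideal.mem_span_pow_iff_exists_isHomogeneous _ _).1 hxR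
  have hev : eval g (P.map (Ideal.Quotient.mk J)) ∈ Ideal.span (Set.range g) ^ (m + 1) := by
    have : eval g (P.map (Ideal.Quotient.mk J)) = Ideal.Quotient.mk J (eval f P) := by
      rw [eval_map]
      exact (eval₂_comp (Ideal.Quotient.mk J) f P).symm
    rw [this, Ideal.Quotient.eq_zero_iff_mem.2 hxJ]
    exact zero_mem _
  have hc : ∀ d, P.coeff d ∈ R ⊔ J := fun d => by
    have := hq m _ (hP.map _) hev d
    rw [coeff_map, hRg, ← Ideal.mem_comap, Ideal.comap_map_of_surjective' _ Ideal.Quotient.mk_surjective,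
      Ideal.mk_ker] at this
    exact this
  have hsum : eval f P ∈ J * R ^ m ⊔ R ^ (m + 1) := by
    rw [eval_eq']
    refine sum_mem fun d hd => ?_
    have hd' : ∏ i, f i ^ d i ∈ R ^ m := by
      refine (Ideal.mem_span_pow_iff_exists_isHomogeneous _ _).2 ⟨monomial d 1, isHomogeneous_monomial _ ?_, ?_⟩
      · rw [← hP (mem_support_iff.1 hd), Finsupp.weight_apply, Finsupp.degree_apply]
        simp [Finsupp.sum]
      · simp [eval_monomial, Finsupp.prod_fintype]
    have h2 := Ideal.mul_mem_mul (hc d) hd'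
    rw [Ideal.sup_mul, ← pow_succ', sup_comm] at h2
    exact h2
  obtain ⟨y, hy, z, hz, hyz⟩ := Submodule.mem_sup.1 hsum
  refine Submodule.mem_sup.2 ⟨y, hy, z, Ideal.mem_inf.2 ⟨?_, hz⟩, hyz⟩
  have hy' : y ∈ J := (Ideal.mul_le_left : J * R ^ m ≤ J) hy
  have hzeq : z = eval f P - y := eq_sub_of_add_eq' hyz
  rw [hzeq]
  exact J.sub_mem hxJ hy'

theorem inf_pow_eq {A : Type u} [CommRing A] (J : Ideal A) {r : ℕ} (f : Fin r → A)
    (hf : IsWeaklyRegular (A ⧸ J) (List.ofFn f)) (n N : ℕ) (hnN : n ≤ N) :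
    J ⊓ Ideal.span (Set.range f) ^ n =
      J * Ideal.span (Set.range f) ^ n ⊔ J ⊓ Ideal.span (Set.range f) ^ N := by
  refine le_antisymm ?_ (sup_le Ideal.mul_le_inf (inf_le_inf_left _ (Ideal.pow_le_pow_right hnN)))
  induction N, hnN using Nat.le_induction with
  | base => exact le_sup_right
  | succ N hN ih =>
    refine ih.trans (sup_le le_sup_left ((inf_pow_le_succ J f hf N).trans (sup_le ?_ le_sup_right)))
    exact le_sup_of_le_left (Ideal.mul_mono_right (Ideal.pow_le_pow_right hN))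

theorem inf_pow_eq_mul {A : Type u} [CommRing A] [IsNoetherianRing A] (J : Ideal A) {r : ℕ} (f : Fin r → A)
    (hf : IsWeaklyRegular (A ⧸ J) (List.ofFn f)) (n : ℕ) :
    J ⊓ Ideal.span (Set.range f) ^ n = J * Ideal.span (Set.range f) ^ n := by
  set R := Ideal.span (Set.range f) with hR
  obtain ⟨k, hk⟩ := Ideal.exists_pow_inf_eq_pow_smul R (M := A) (N := J)
  have hN : J ⊓ R ^ (n + k) ≤ J * R ^ n := by
    have h := hk (n + k) (Nat.le_add_left _ _)
    simp only [smul_eq_mul, Ideal.mul_top, Nat.add_sub_cancel] at h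
    rw [inf_comm, h, mul_comm J]
    exact Ideal.mul_mono_right inf_le_right
  refine le_antisymm ?_ Ideal.mul_le_inf
  rw [inf_pow_eq J f hf n (n + k) (Nat.le_add_right _ _)]
  exact sup_le le_rfl hN

end Groth.Agent.QReg14
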